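import Mathlib
import Groth.Prelude.Def_AnHol

/-!
# Holomorphic functions on affine space: sanity check of `An.holPred` (for S4307)
-/

set_option autoImplicit false
open AlgebraicGeometry CategoryTheory TopologicalSpace Opposite Topology

noncomputable section

namespace Groth.Agent.Lib27.AnAff
open An

section general
variable {X : Scheme.{0}} [X.Over SC]


lemma ev_pow (x : Pts X) (U : X.Opens) (h : x.pt ∈ U) (f : Γ(X, U)) (k : ℕ) :
    x.ev U h (f ^ k) = x.ev U h f ^ k := by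
  simp only [Pts.ev, map_pow]

lemma evTop_strHom (x : Pts X) (c : ℂ) : x.evTop (strHom X c) = c := by
  have h1 : (X ↘ SC).appTop ≫ x.1.appTop = 𝟙 _ := by
    rw [← Scheme.Hom.comp_appTop, x.2]; simp
  have h2 : x.1.appTop ((X ↘ SC).appTop ((Scheme.ΓSpecIso (CommRingCat.of ℂ)).inv c)) =
      (Scheme.ΓSpecIso (CommRingCat.of ℂ)).inv c := by
    have := ConcreteCategory.congr_hom h1 ((Scheme.ΓSpecIso (CommRingCat.of ℂ)).inv c)
    simpa using this
  show (Scheme.ΓSpecIso (CommRingCat.of ℂ)).hom (x.1.appLE ⊤ ⊤ _ (strHom X c)) = c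
  have h3 : x.1.appLE ⊤ ⊤ (Pts.top_le_preimage x (Opens.mem_top _)) = x.1.appTop := by
    simp [Scheme.Hom.appTop, Scheme.Hom.appLE]
  rw [h3]
  show (Scheme.ΓSpecIso (CommRingCat.of ℂ)).hom (x.1.appTop ((X ↘ SC).appTop
    ((Scheme.ΓSpecIso (CommRingCat.of ℂ)).inv c))) = c
  rw [h2]
  simp


lemma cpt_mem_basicOpen (b : Γ(SC, ⊤)) :
    cpt ∈ SC.basicOpen b ↔ (Scheme.ΓSpecIso (CommRingCat.of ℂ)).hom b ≠ 0 := by
  rw [basicOpen_eq_of_affine']
  show (Scheme.ΓSpecIso (CommRingCat.of ℂ)).hom b ∉ (cpt : PrimeSpectrum ℂ).asIdeal ↔ _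
  have : (cpt : PrimeSpectrum ℂ).asIdeal = ⊥ := Ideal.eq_bot_of_prime _
  rw [this, Ideal.mem_bot]

lemma pt_mem_basicOpen (x : Pts X) (U : X.Opens) (h : x.pt ∈ U) (f : Γ(X, U)) :
    x.pt ∈ X.basicOpen f ↔ x.ev U h f ≠ 0 := by
  unfold Pts.ev
  rw [← cpt_mem_basicOpen]
  have h1 : x.pt ∈ X.basicOpen f ↔ cpt ∈ x.1 ⁻¹ᵁ X.basicOpen f := Iff.rfl
  rw [h1, Scheme.preimage_basicOpen]
  have h2 : x.1.appLE U ⊤ (Pts.top_le_preimage x h) f =
      SC.presheaf.map (homOfLE (Pts.top_le_preimage x h)).op (x.1.app U f) := rfl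
  rw [h2, Scheme.basicOpen_res]
  simp

end general

variable (n : ℕ)

/-- affine space over ℂ -/
abbrev A : Scheme.{0} := 𝔸(Fin n; An.SC)

variable {n}

/-- coordinates of a ℂ-point -/
def φ (x : Pts (A n)) : Fin n → ℂ := fun i => x.evTop (AffineSpace.coord An.SC i)

lemma appLE_top (x : Pts (A n)) :
    x.1.appLE ⊤ ⊤ (Pts.top_le_preimage x (Opens.mem_top _)) = x.1.appTop := by
  simp [Scheme.Hom.appTop, Scheme.Hom.appLE]

lemma φ_apply (x : Pts (A n)) (i : Fin n) :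
    φ x i = (Scheme.ΓSpecIso (CommRingCat.of ℂ)).hom (x.1.appTop (AffineSpace.coord An.SC i)) := by
  show (Scheme.ΓSpecIso (CommRingCat.of ℂ)).hom (x.1.appLE ⊤ ⊤ _ _) = _
  rw [appLE_top]

lemma φ_injective : Function.Injective (φ (n := n)) := by
  intro x y hxy
  apply Subtype.ext
  apply AffineSpace.hom_ext
  · rw [x.2, y.2]
  · intro i
    have := congrFun hxy i
    rw [φ_apply, φ_apply] at this
    exact (ConcreteCategory.bijective_of_isIso (Scheme.ΓSpecIso (CommRingCat.of ℂ)).hom).1 this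

/-- the point with given coordinates -/
noncomputable def ψ (z : Fin n → ℂ) : Pts (A n) :=
  ⟨AffineSpace.homOfVector (𝟙 SC) (fun i => (Scheme.ΓSpecIso (CommRingCat.of ℂ)).inv (z i)),
    AffineSpace.homOfVector_over _ _⟩

lemma φ_ψ (z : Fin n → ℂ) : φ (ψ z) = z := by
  funext i
  rw [φ_apply]
  show (Scheme.ΓSpecIso (CommRingCat.of ℂ)).hom ((AffineSpace.homOfVector (𝟙 SC) _).appTop _) = _
  rw [AffineSpace.homOfVector_appTop_coord]
  simp

lemma ψ_φ (x : Pts (A n)) : ψ (φ x) = x := φ_injective (φ_ψ _)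

/-- polynomials as global sections -/
noncomputable def pol : MvPolynomial (Fin n) ℂ →+* Γ(A n, ⊤) :=
  MvPolynomial.eval₂Hom (strHom (A n)) (AffineSpace.coord An.SC)

lemma pol_surjective : Function.Surjective (pol (n := n)) := by
  have h := AffineSpace.SpecIso_hom_appTop (n := Fin n) (CommRingCat.of ℂ)
  have : IsIso (AffineSpace.SpecIso (Fin n) (CommRingCat.of ℂ)).hom.appTop :=
    inferInstanceAs (IsIso ((AffineSpace.SpecIso (Fin n) (CommRingCat.of ℂ)).hom.app ⊤))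
  have hb : Function.Bijective ((Scheme.ΓSpecIso _).inv ≫ (AffineSpace.SpecIso (Fin n) (CommRingCat.of ℂ)).hom.appTop) :=
    ConcreteCategory.bijective_of_isIso _
  rw [h] at hb
  simp only [Iso.inv_hom_id_assoc] at hb
  intro s
  obtain ⟨q, hq⟩ := hb.2 s
  exact ⟨q, hq⟩

lemma evTop_pol (x : Pts (A n)) (q : MvPolynomial (Fin n) ℂ) :
    x.evTop (pol q) = MvPolynomial.eval (φ x) q := by
  let e : Γ(A n, ⊤) →+* ℂ := (Scheme.ΓSpecIso (CommRingCat.of ℂ)).hom.hom.comp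
    (x.1.appLE ⊤ ⊤ (Pts.top_le_preimage x (Opens.mem_top _))).hom
  have he : ∀ s, x.evTop s = e s := fun s => rfl
  rw [he]
  have : e.comp pol = MvPolynomial.eval (φ x) := by
    apply MvPolynomial.ringHom_ext
    · intro c
      show e (pol (MvPolynomial.C c)) = _
      rw [← he]
      simp only [pol, MvPolynomial.coe_eval₂Hom, MvPolynomial.eval₂_C, MvPolynomial.eval_C]
      exact evTop_strHom x c
    · intro i
      show e (pol (MvPolynomial.X i)) = _
      rw [← he]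
      simp only [pol, MvPolynomial.coe_eval₂Hom, MvPolynomial.eval₂_X, MvPolynomial.eval_X]
      rfl
  exact DFunLike.congr_fun this q

lemma local_desc (x₀ : Pts (A n)) (W : (A n).Opens) (hW : x₀.pt ∈ W) (f : Γ(A n, W)) :
    ∃ (h p : MvPolynomial (Fin n) ℂ) (k : ℕ), MvPolynomial.eval (φ x₀) h ≠ 0 ∧
      ∀ x : Pts (A n), MvPolynomial.eval (φ x) h ≠ 0 →
        ∃ hx : x.pt ∈ W, x.ev W hx f * (MvPolynomial.eval (φ x) h) ^ k =
          MvPolynomial.eval (φ x) p := by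
  have haff : IsAffineOpen (⊤ : (A n).Opens) := isAffineOpen_top _
  obtain ⟨f', hf'W, hx₀⟩ := haff.exists_basicOpen_le (V := W) ⟨x₀.pt, hW⟩ trivial
  obtain ⟨h, rfl⟩ := pol_surjective f'
  have hloc : IsLocalization.Away (pol h) Γ(A n, (A n).basicOpen (pol h)) :=
    haff.isLocalization_basicOpen (pol h)
  obtain ⟨⟨a, ⟨_, k, rfl⟩⟩, hak⟩ := IsLocalization.surj (Submonoid.powers (pol h))
    ((A n).presheaf.map (homOfLE hf'W).op f)
  obtain ⟨p, rfl⟩ := pol_surjective a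
  have hmem : ∀ x : Pts (A n), x.pt ∈ (A n).basicOpen (pol h) ↔ MvPolynomial.eval (φ x) h ≠ 0 := by
    intro x
    rw [pt_mem_basicOpen x ⊤ (Opens.mem_top _) (pol h)]
    show x.evTop (pol h) ≠ 0 ↔ _
    rw [evTop_pol]
  refine ⟨h, p, k, (hmem x₀).mp hx₀, fun x hx => ?_⟩
  have hxD : x.pt ∈ (A n).basicOpen (pol h) := (hmem x).mpr hx
  refine ⟨hf'W hxD, ?_⟩
  have hak' : (A n).presheaf.map (homOfLE hf'W).op f *
      (A n).presheaf.map (homOfLE ((A n).basicOpen_le (pol h))).op (pol h ^ k) =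
      (A n).presheaf.map (homOfLE ((A n).basicOpen_le (pol h))).op (pol p) := hak
  have := congrArg (x.ev ((A n).basicOpen (pol h)) hxD) hak'
  rw [ev_mul, ev_res, ev_res, ev_res, ev_pow] at this
  have e1 : x.ev ⊤ (Opens.mem_top _) (pol h) = MvPolynomial.eval (φ x) h := evTop_pol x h
  have e2 : x.ev ⊤ (Opens.mem_top _) (pol p) = MvPolynomial.eval (φ x) p := evTop_pol x p
  rw [← e1, ← e2]
  exact this

lemma continuous_φ : Continuous (φ (n := n)) := by
  refine continuous_pi fun i => ?_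
  refine continuous_def.2 fun V hV => ?_
  have : (fun x => φ x i) ⁻¹' V = Pts.basicSet ⊤ (AffineSpace.coord An.SC i) V := by
    ext x
    constructor
    · intro hx; exact ⟨Opens.mem_top _, hx⟩
    · rintro ⟨_, hx⟩; exact hx
  rw [this]; exact Pts.isOpen_basicSet _ _ hV

lemma ev_eq_div {x : Pts (A n)} {W : (A n).Opens} {hx : x.pt ∈ W} {f : Γ(A n, W)}
    {h p : MvPolynomial (Fin n) ℂ} {k : ℕ} {z : Fin n → ℂ} (hz : MvPolynomial.eval z h ≠ 0)
    (he : x.ev W hx f * (MvPolynomial.eval z h) ^ k = MvPolynomial.eval z p) :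
    x.ev W hx f = MvPolynomial.eval z p / (MvPolynomial.eval z h) ^ k :=
  eq_div_of_mul_eq (pow_ne_zero k hz) he

lemma continuous_ψ : Continuous (ψ (n := n)) := by
  refine continuous_generateFrom_iff.2 ?_
  rintro _ ⟨W, f, V, hV, rfl⟩
  rw [isOpen_iff_mem_nhds]
  rintro z₀ ⟨hW, hfV⟩
  obtain ⟨h, p, k, h0, hall⟩ := local_desc (ψ z₀) W hW f
  rw [φ_ψ] at h0
  let q : (Fin n → ℂ) → ℂ := fun z => MvPolynomial.eval z p / (MvPolynomial.eval z h) ^ k
  have hq : ContinuousAt q z₀ :=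
    (MvPolynomial.continuous_eval p).continuousAt.div
      ((MvPolynomial.continuous_eval h).continuousAt.pow k) (pow_ne_zero k h0)
  have hqz₀ : q z₀ ∈ V := by
    obtain ⟨hx, he⟩ := hall (ψ z₀) (by rwa [φ_ψ])
    rw [φ_ψ] at he
    have : (ψ z₀).ev W hx f = q z₀ := ev_eq_div h0 he
    rw [← this]; exact hfV
  have h1 : ∀ᶠ z in 𝓝 z₀, MvPolynomial.eval z h ≠ 0 :=
    (MvPolynomial.continuous_eval h).continuousAt.eventually_ne h0
  have h2 : ∀ᶠ z in 𝓝 z₀, q z ∈ V := hq.eventually_mem (hV.mem_nhds hqz₀)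
  filter_upwards [h1, h2] with z hz1 hz2
  obtain ⟨hx, he⟩ := hall (ψ z) (by rwa [φ_ψ])
  refine ⟨hx, ?_⟩
  rw [φ_ψ] at he
  have : (ψ z).ev W hx f = q z := ev_eq_div hz1 he
  rw [this]; exact hz2

/-- the homeomorphism -/
def Φ : Pts (A n) ≃ₜ (Fin n → ℂ) where
  toFun := φ
  invFun := ψ
  left_inv := ψ_φ
  right_inv := φ_ψ
  continuous_toFun := continuous_φ
  continuous_invFun := continuous_ψ

/-- the underlying set of points -/
def car (V : Opens (top (A n))) : Set (Pts (A n)) := V.1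

lemma isOpen_image (U : Opens (top (A n))) : IsOpen (φ '' car U) :=
  (Φ (n := n)).isOpenMap _ U.2

lemma differentiable_eval (p : MvPolynomial (Fin n) ℂ) :
    Differentiable ℂ (fun z : Fin n → ℂ => MvPolynomial.eval z p) := by
  have := (AnalyticOnNhd.eval_mvPolynomial (𝕜 := ℂ) p).differentiableOn
  exact differentiableOn_univ.mp this

lemma hol_of_diff (U : Opens (top (A n))) (g : U → ℂ) (G : (Fin n → ℂ) → ℂ)
    (hG : DifferentiableOn ℂ G (φ '' car U))
    (hg : ∀ x : U, g x = G (φ x.1)) :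
    (holPred (A n)).pred (U := U) g := by
  apply holPred_of_chartAlg
  apply Algebra.subset_adjoin
  exact ⟨⊤, fun _ => Opens.mem_top _, n, AffineSpace.coord An.SC, φ '' car U, G,
    isOpen_image U, hG, fun x => ⟨⟨x.1, x.2, rfl⟩, hg x⟩⟩

open Classical in
/-- extension by zero of a function on an open of points to `ℂ^n` -/
def ext (V : Opens (top (A n))) (a : V → ℂ) : (Fin n → ℂ) → ℂ :=
  fun z => if h : ψ z ∈ V then a ⟨ψ z, h⟩ else 0

lemma ext_φ (V : Opens (top (A n))) (a : V → ℂ) (x : Pts (A n)) (hx : x ∈ V) :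
    ext V a (φ x) = a ⟨x, hx⟩ := by
  unfold ext
  have h : ψ (φ x) ∈ V := by rw [ψ_φ]; exact hx
  rw [dif_pos h]
  congr 1
  exact Subtype.ext (ψ_φ _)

lemma ext_add (V : Opens (top (A n))) (a b : V → ℂ) : ext V (a + b) = ext V a + ext V b := by
  funext z
  unfold ext
  by_cases h : ψ z ∈ V
  · simp [h]
  · simp [h]

lemma ext_mul (V : Opens (top (A n))) (a b : V → ℂ) : ext V (a * b) = ext V a * ext V b := by
  funext z
  unfold ext
  by_cases h : ψ z ∈ V
  · simp [h]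
  · simp [h]

lemma hol_chart (V : Opens (top (A n))) (a : V → ℂ) (ha : IsChartFun (X := A n) V a) :
    DifferentiableOn ℂ (ext V a) (φ '' car V) := by
  obtain ⟨W, hW, m, s, V', G', hV', hG', hall⟩ := ha
  rintro z₀ ⟨x₀, hx₀V, rfl⟩
  apply DifferentiableAt.differentiableWithinAt
  choose h p k h0 hloc using fun i : Fin m => local_desc x₀ W (hW ⟨x₀, hx₀V⟩) (s i)
  let q : (Fin n → ℂ) → (Fin m → ℂ) :=
    fun z i => MvPolynomial.eval z (p i) / (MvPolynomial.eval z (h i)) ^ (k i)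
  have hq : DifferentiableAt ℂ q (φ x₀) := by
    rw [differentiableAt_pi]
    intro i
    have hd : DifferentiableAt ℂ (fun z => (MvPolynomial.eval z (h i)) ^ (k i)) (φ x₀) :=
      (differentiable_eval (h i)).differentiableAt.pow (k i)
    have hm : DifferentiableAt ℂ
        (fun z => MvPolynomial.eval z (p i) * ((MvPolynomial.eval z (h i)) ^ (k i))⁻¹) (φ x₀) :=
      ((differentiable_eval (p i)).differentiableAt).mul (hd.inv (pow_ne_zero _ (h0 i)))
    exact hm.congr_of_eventuallyEq (Filter.Eventually.of_forall fun z => div_eq_mul_inv _ _)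
  have hqx : ∀ (x : Pts (A n)) (hx : x ∈ V), (∀ i, MvPolynomial.eval (φ x) (h i) ≠ 0) →
      q (φ x) = fun i => Pts.ev x W (hW ⟨x, hx⟩) (s i) := by
    intro x hx hne
    funext i
    obtain ⟨hx', he⟩ := hloc i x (hne i)
    exact (ev_eq_div (hne i) he).symm
  have hmem : q (φ x₀) ∈ V' := by
    rw [hqx x₀ hx₀V h0]
    exact (hall ⟨x₀, hx₀V⟩).1
  have hG'at : DifferentiableAt ℂ G' (q (φ x₀)) :=
    (hG' _ hmem).differentiableAt (hV'.mem_nhds hmem)
  have hcomp : DifferentiableAt ℂ (fun z => G' (q z)) (φ x₀) := hG'at.comp _ hq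
  refine hcomp.congr_of_eventuallyEq ?_
  have e1 : ∀ᶠ z in 𝓝 (φ x₀), z ∈ φ '' car V :=
    (isOpen_image V).mem_nhds ⟨x₀, hx₀V, rfl⟩
  have e2 : ∀ᶠ z in 𝓝 (φ x₀), ∀ i, MvPolynomial.eval z (h i) ≠ 0 :=
    Filter.eventually_all.2 fun i =>
      (MvPolynomial.continuous_eval (h i)).continuousAt.eventually_ne (h0 i)
  filter_upwards [e1, e2] with z hz1 hz2
  obtain ⟨x, hxV, rfl⟩ := hz1
  rw [ext_φ V a x hxV, hqx x hxV hz2]
  exact (hall ⟨x, hxV⟩).2

lemma hol_chartAlg (V : Opens (top (A n))) (a : V → ℂ) (ha : a ∈ chartAlg (X := A n) V) :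
    DifferentiableOn ℂ (ext V a) (φ '' car V) := by
  unfold chartAlg at ha
  induction ha using Algebra.adjoin_induction with
  | mem x hx => exact hol_chart V x hx
  | algebraMap r =>
    refine (differentiableOn_const (c := r)).congr ?_
    rintro z ⟨x, hx, rfl⟩
    rw [ext_φ V _ x hx]
    rfl
  | add x y _ _ hx hy => rw [ext_add]; exact hx.add hy
  | mul x y _ _ hx hy => rw [ext_mul]; exact hx.mul hy

lemma diff_of_hol (U : Opens (top (A n))) (g : U → ℂ) (hg : (holPred (A n)).pred (U := U) g) :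
    DifferentiableOn ℂ (ext U g) (φ '' car U) := by
  rintro z₀ ⟨x₀, hx₀U, rfl⟩
  obtain ⟨V, hx₀V, i, hV⟩ := hg ⟨x₀, hx₀U⟩
  have h1 := hol_chartAlg V _ hV
  have h2 : DifferentiableAt ℂ (ext V fun x => g (i x)) (φ x₀) :=
    (h1 _ ⟨x₀, hx₀V, rfl⟩).differentiableAt ((isOpen_image V).mem_nhds ⟨x₀, hx₀V, rfl⟩)
  apply DifferentiableAt.differentiableWithinAt
  refine h2.congr_of_eventuallyEq ?_
  filter_upwards [(isOpen_image V).mem_nhds ⟨x₀, hx₀V, rfl⟩] with z hz
  obtain ⟨x, hxV, rfl⟩ := hz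
  rw [ext_φ V _ x hxV, ext_φ U g x (i.le hxV)]
  rfl

theorem main (n : ℕ) (U : TopologicalSpace.Opens (An.Pts (𝔸(Fin n; An.SC))))
    (g : U → ℂ) :
    (An.holPred (𝔸(Fin n; An.SC))).pred g ↔
      ∃ G : (Fin n → ℂ) → ℂ,
        DifferentiableOn ℂ G ((fun (x : An.Pts (𝔸(Fin n; An.SC))) (i : Fin n) =>
          x.evTop (AffineSpace.coord An.SC i)) '' (U : Set (An.Pts (𝔸(Fin n; An.SC))))) ∧
        ∀ x : U, g x = G (fun i => (x : An.Pts (𝔸(Fin n; An.SC))).evTop (AffineSpace.coord An.SC i)) := by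
  constructor
  · intro hg
    exact ⟨ext U g, diff_of_hol U g hg, fun x => (ext_φ U g x.1 x.2).symm⟩
  · rintro ⟨G, hG, hg⟩
    exact hol_of_diff U g G hG hg

end Groth.Agent.Lib27.AnAff
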